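import Mathlib

/-!
Arithmetic for comparing a group order with the part belonging to the characteristic.
-/
set_option autoImplicit false

namespace Cfsg.Agent.H37.OrderBound

open Finset

/-- The bound asked for. -/
def Bound (p N : ℕ) : Prop :=
  N < p ^ (3 * N.factorization p) ∧ N ^ 3 < p ^ (8 * N.factorization p)

theorem not_dvd_pow_sub_one {p q e : ℕ} (hp : p.Prime) (hq : p ∣ q) (he : e ≠ 0) (hq1 : 1 ≤ q) :
    ¬ p ∣ q ^ e - 1 := by
  intro h
  have h1 : p ∣ q ^ e := hq.trans (dvd_pow_self q he)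
  have := Nat.dvd_sub h1 h
  rw [show q ^ e - (q ^ e - 1) = 1 by have := Nat.one_le_pow e q hq1; omega] at this
  exact hp.one_lt.ne' (Nat.dvd_one.1 this)

theorem not_dvd_pow_add_one {p q e : ℕ} (hp : p.Prime) (hq : p ∣ q) (he : e ≠ 0) :
    ¬ p ∣ q ^ e + 1 := by
  intro h
  exact hp.one_lt.ne' (Nat.dvd_one.1 ((Nat.dvd_add_right (hq.trans (dvd_pow_self q he))).1 h))

theorem not_dvd_prod {ι : Type*} {p : ℕ} (hp : p.Prime) (s : Finset ι) (g : ι → ℕ)
    (h : ∀ i ∈ s, ¬ p ∣ g i) : ¬ p ∣ ∏ i ∈ s, g i := by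
  intro hd
  obtain ⟨i, hi, hi'⟩ := (Prime.dvd_finsetProd_iff hp.prime g).1 hd
  exact h i hi hi'

theorem factorization_eq {p N d f a R : ℕ} (hp : p.Prime) (hN : N * d = (p ^ f) ^ a * R)
    (hR : ¬ p ∣ R) (hd : ¬ p ∣ d) : N.factorization p = f * a := by
  have hR0 : R ≠ 0 := fun h => hR (h ▸ dvd_zero p)
  have hd0 : d ≠ 0 := fun h => hd (h ▸ dvd_zero p)
  have hN0 : N ≠ 0 := fun h => by
    rw [h, zero_mul] at hN
    exact mul_ne_zero (pow_ne_zero _ (pow_ne_zero _ hp.ne_zero)) hR0 hN.symm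
  have h1 := congrArg (fun x => x.factorization p) hN
  simp only [Nat.factorization_mul hN0 hd0,
    Nat.factorization_mul (pow_ne_zero _ (pow_ne_zero _ hp.ne_zero)) hR0, Finsupp.add_apply,
    Nat.factorization_eq_zero_of_not_dvd hd, Nat.factorization_eq_zero_of_not_dvd hR,
    add_zero] at h1
  rw [← pow_mul, hp.factorization_pow, Finsupp.single_eq_same] at h1
  exact h1

theorem pos_of_eq {p N d f a R : ℕ} (hp : p.Prime) (hN : N * d = (p ^ f) ^ a * R)
    (hR : ¬ p ∣ R) : 1 ≤ d := by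
  rcases Nat.eq_zero_or_pos d with rfl | h
  · rw [mul_zero] at hN
    exact absurd hN.symm
      (mul_ne_zero (pow_ne_zero _ (pow_ne_zero _ hp.ne_zero)) fun h => hR (h ▸ dvd_zero p))
  · exact h

theorem core {p N d f a R dim : ℕ} (hp : p.Prime) (hN : N * d = (p ^ f) ^ a * R)
    (hR : ¬ p ∣ R) (hd : ¬ p ∣ d) (hlt : (p ^ f) ^ a * R < (p ^ f) ^ dim) (hdim : 3 * dim ≤ 8 * a) :
    Bound p N := by
  unfold Bound
  rw [factorization_eq hp hN hR hd]
  have hq : 1 ≤ p ^ f := Nat.one_le_pow _ _ hp.pos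
  have h1 : N < (p ^ f) ^ dim :=
    lt_of_le_of_lt (Nat.le_mul_of_pos_right N (pos_of_eq hp hN hR)) (hN ▸ hlt)
  refine ⟨h1.trans_le ?_, ?_⟩
  · rw [← pow_mul]
    exact Nat.pow_le_pow_right hp.pos (by nlinarith)
  · refine (Nat.pow_lt_pow_left h1 three_ne_zero).trans_le ?_
    rw [← pow_mul, ← pow_mul]
    exact Nat.pow_le_pow_right hp.pos (by nlinarith)

theorem prod_sub_one_lt {q : ℕ} (hq : 1 ≤ q) (e : ℕ → ℕ) : ∀ n : ℕ, 1 ≤ n →
    ∏ i ∈ range n, (q ^ e i - 1) < q ^ (∑ i ∈ range n, e i)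
  | 0, h => absurd h (by omega)
  | n + 1, _ => by
      rw [prod_range_succ, sum_range_succ, pow_add]
      have hb : q ^ e n - 1 < q ^ e n := by have := Nat.one_le_pow (e n) q hq; omega
      have ha : ∏ i ∈ range n, (q ^ e i - 1) ≤ q ^ ∑ i ∈ range n, e i := by
        rw [← prod_pow_eq_pow_sum]
        exact Finset.prod_le_prod' fun i _ => Nat.sub_le _ _
      calc (∏ i ∈ range n, (q ^ e i - 1)) * (q ^ e n - 1)
          ≤ q ^ (∑ i ∈ range n, e i) * (q ^ e n - 1) := Nat.mul_le_mul_right _ ha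
        _ < q ^ (∑ i ∈ range n, e i) * q ^ e n :=
          Nat.mul_lt_mul_of_pos_left hb (Nat.pow_pos hq)

theorem plus_mul_sub {q a b : ℕ} (hq : 1 ≤ q) (hab : a < b) :
    (q ^ a - 1) * (q ^ b + 1) < q ^ (a + b) := by
  have h1 : 1 ≤ q ^ a := Nat.one_le_pow _ _ hq
  have h2 : q ^ a ≤ q ^ b := Nat.pow_le_pow_right hq hab.le
  rw [pow_add, Nat.sub_mul, one_mul]
  rw [Nat.mul_add, mul_one]
  have h0 : 0 < q ^ a * q ^ b := Nat.mul_pos (by omega) (by omega)
  generalize q ^ a * q ^ b = P at *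
  omega

/-- The alternating product of the unitary groups without the first factor. -/
def alt (q : ℕ) (i : ℕ) : ℕ := if Even i then q ^ (i + 2) - 1 else q ^ (i + 2) + 1

theorem alt_two (q : ℕ) (j : ℕ) :
    alt q (2 * j) = q ^ (2 * j + 2) - 1 ∧ alt q (2 * j + 1) = q ^ (2 * j + 3) + 1 := by
  constructor
  · simp [alt]
  · simp [alt, Nat.even_add_one]

theorem alt_lt {q : ℕ} (hq : 2 ≤ q) : ∀ j : ℕ,
    ∏ i ∈ range (2 * j), alt q i ≤ q ^ (∑ i ∈ range (2 * j), (i + 2)) ∧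
    (1 ≤ j → ∏ i ∈ range (2 * j), alt q i < q ^ (∑ i ∈ range (2 * j), (i + 2))) ∧
    ∏ i ∈ range (2 * j + 1), alt q i < q ^ (∑ i ∈ range (2 * j + 1), (i + 2))
  | 0 => by
      refine ⟨by simp, by omega, ?_⟩
      simp only [mul_zero, zero_add, prod_range_one, sum_range_one, alt, Even.zero, if_true]
      have := Nat.one_le_pow 2 q (by omega)
      omega
  | j + 1 => by
      obtain ⟨h1, -, -⟩ := alt_lt hq j
      obtain ⟨a0, a1⟩ := alt_two q j
      obtain ⟨b0, -⟩ := alt_two q (j + 1)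
      have hstep : ∏ i ∈ range (2 * (j + 1)), alt q i < q ^ (∑ i ∈ range (2 * (j + 1)), (i + 2)) := by
        rw [show 2 * (j + 1) = 2 * j + 1 + 1 by ring, prod_range_succ, prod_range_succ,
          sum_range_succ, sum_range_succ, a0, a1, mul_assoc, add_assoc,
          pow_add q (∑ i ∈ range (2 * j), (i + 2))]
        have hlt : (q ^ (2 * j + 2) - 1) * (q ^ (2 * j + 3) + 1)
            < q ^ (2 * j + 2 + (2 * j + 3)) := by
          have h2 : q ^ (2 * j + 2) < q ^ (2 * j + 3) := Nat.pow_lt_pow_right (by omega) (by omega)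
          have h3 : 1 ≤ q ^ (2 * j + 2) := Nat.one_le_pow _ _ (by omega)
          rw [pow_add q (2 * j + 2) (2 * j + 3), Nat.sub_mul, one_mul, Nat.mul_add, mul_one]
          generalize q ^ (2 * j + 2) = A at *
          generalize q ^ (2 * j + 3) = B at *
          have hP : 0 < A * B := Nat.mul_pos (by omega) (by omega)
          generalize A * B = P at *
          omega
        calc (∏ i ∈ range (2 * j), alt q i) * ((q ^ (2 * j + 2) - 1) * (q ^ (2 * j + 3) + 1))
            ≤ q ^ (∑ i ∈ range (2 * j), (i + 2)) * ((q ^ (2 * j + 2) - 1) * (q ^ (2 * j + 3) + 1)) :=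
              Nat.mul_le_mul_right _ h1
          _ < q ^ (∑ i ∈ range (2 * j), (i + 2)) * q ^ (2 * j + 2 + (2 * j + 1 + 2)) := by
              rw [show 2 * j + 1 + 2 = 2 * j + 3 by ring]
              exact Nat.mul_lt_mul_of_pos_left hlt (Nat.pow_pos (by omega))
      refine ⟨hstep.le, fun _ => hstep, ?_⟩
      rw [prod_range_succ _ (2 * (j + 1)), sum_range_succ _ (2 * (j + 1)), b0,
        pow_add q (∑ i ∈ range (2 * (j + 1)), (i + 2))]
      have h2 : q ^ (2 * (j + 1) + 2) - 1 < q ^ (2 * (j + 1) + 2) := by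
        have := Nat.one_le_pow (2 * (j + 1) + 2) q (by omega)
        omega
      exact Nat.mul_lt_mul_of_lt_of_le hstep h2.le (Nat.pow_pos (by omega))

theorem alt_bound {q : ℕ} (hq : 2 ≤ q) (n : ℕ) (hn : 1 ≤ n) :
    ∏ i ∈ range n, alt q i < q ^ (∑ i ∈ range n, (i + 2)) := by
  rcases Nat.even_or_odd' n with ⟨j, rfl | rfl⟩
  · exact (alt_lt hq j).2.1 (by omega)
  · exact (alt_lt hq j).2.2

theorem sum_two (n : ℕ) : (∑ i ∈ range n, (i + 2)) * 2 = n * n + 3 * n := by
  induction n with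
  | zero => simp
  | succ n ih => rw [sum_range_succ, add_mul, ih]; ring

theorem sum_even (m : ℕ) : ∑ i ∈ range m, 2 * (i + 1) = m * (m + 1) := by
  induction m with
  | zero => simp
  | succ m ih => rw [sum_range_succ, ih]; ring

end Cfsg.Agent.H37.OrderBound
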