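import Cfsg.Agent.H37.OrderBound.Arith
import Cfsg.Prelude.Def_LieTypeChar
import Cfsg.Agent.S0243
import Cfsg.Agent.S0280
import Cfsg.Agent.S0292
import Cfsg.Agent.S0293
import Cfsg.Agent.S0294
import Cfsg.Agent.S1059
import Cfsg.Agent.S1062
import Cfsg.Agent.S1063
import Cfsg.Agent.S1064
import Cfsg.Agent.S1065
import Cfsg.Agent.S1066
import Cfsg.Agent.S1067
import Cfsg.Agent.S1068
import Cfsg.Agent.S1069
import Cfsg.Agent.S1163
import Cfsg.Agent.Symplectic.Order

/-!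
The order of a group of Lie type against its part in the characteristic.
-/
set_option autoImplicit false

namespace Cfsg.Agent.H37.OrderBound

open Finset

variable {p : ℕ}

theorem field_card (hp : p.Prime) (F : Type) [Field F] [Fintype F] [CharP F p] :
    ∃ f, 1 ≤ f ∧ Fintype.card F = p ^ f := by
  obtain ⟨n, -, h⟩ := FiniteField.card F p
  exact ⟨n, n.2, h⟩

theorem root_card (hp : p.Prime) {q k : ℕ} (hk : k ≠ 0) (K : Type) [Field K] [Fintype K]
    [CharP K p] (h : Fintype.card K = q ^ k) : ∃ f, 1 ≤ f ∧ q = p ^ f := by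
  obtain ⟨n, hn, hc⟩ := field_card hp K
  obtain ⟨j, -, hj⟩ := (Nat.dvd_prime_pow hp).1 (hc ▸ h ▸ dvd_pow_self q hk : q ∣ p ^ n)
  refine ⟨j, ?_, hj⟩
  by_contra h0
  have h1 := Fintype.one_lt_card (α := K)
  rw [show j = 0 by omega, pow_zero] at hj
  rw [h, hj, one_pow] at h1
  omega

theorem two_le_pow (hp : p.Prime) {f : ℕ} (hf : 1 ≤ f) : 2 ≤ p ^ f :=
  hp.two_le.trans (Nat.le_self_pow (by omega) p)

theorem gcd_not_dvd (hp : p.Prime) {n r : ℕ} (h : ¬ p ∣ r) : ¬ p ∣ Nat.gcd n r :=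
  fun hd => h (hd.trans (Nat.gcd_dvd_right n r))

theorem two_not_dvd (hp : p.Prime) {f : ℕ} (hodd : Odd (p ^ f)) (hf : 1 ≤ f) : ¬ p ∣ 2 := by
  intro h
  obtain rfl := (Nat.prime_dvd_prime_iff_eq hp Nat.prime_two).1 h
  exact absurd (even_two.pow_of_ne_zero (by omega : f ≠ 0)) (Nat.not_even_iff_odd.2 hodd)

theorem psl_two {F : Type} [Field F] [Fintype F] (hp : p.Prime) [CharP F p]
    (h4 : 4 ≤ Fintype.card F) :
    Nat.card (Matrix.ProjectiveSpecialLinearGroup (Fin 2) F)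
        < p ^ (3 * (Nat.card (Matrix.ProjectiveSpecialLinearGroup (Fin 2) F)).factorization p) ∧
    Fintype.card F
        = p ^ (Nat.card (Matrix.ProjectiveSpecialLinearGroup (Fin 2) F)).factorization p := by
  obtain ⟨f, hf, hF⟩ := field_card hp F
  have hq : p ∣ p ^ f := dvd_pow_self p (by omega)
  have h2 := two_le_pow hp hf
  have h := Cfsg.Agent.S0243.result hF 2 le_rfl
  rw [Fin.prod_univ_two] at h
  simp only [Fin.val_zero, Fin.val_one, pow_zero, pow_one] at h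
  set N := Nat.card (Matrix.ProjectiveSpecialLinearGroup (Fin 2) F)
  set q := p ^ f
  set d := Nat.gcd 2 (q - 1)
  have e : N * d = q ^ 1 * (q ^ 2 - 1) := by
    have h1 : q ^ 2 - q = q * (q - 1) := by rw [Nat.mul_sub, mul_one, sq]
    rw [h1] at h
    refine Nat.eq_of_mul_eq_mul_left (show 0 < q - 1 by omega) ?_
    rw [pow_one]
    linarith
  have hk : N.factorization p = f * 1 := factorization_eq hp e
    (not_dvd_pow_sub_one hp hq two_ne_zero (by omega))
    (gcd_not_dvd hp (by simpa using not_dvd_pow_sub_one hp hq one_ne_zero (by omega)))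
  rw [hk, mul_one]
  refine ⟨?_, hF⟩
  have hd : 1 ≤ d := pos_of_eq (R := q ^ 2 - 1) hp (f := f) (a := 1) e
    (not_dvd_pow_sub_one hp hq two_ne_zero (by omega))
  have h3 : q ^ 2 - 1 < q ^ 2 := by have := Nat.one_le_pow 2 q (by omega); omega
  calc N ≤ N * d := Nat.le_mul_of_pos_right N hd
    _ = q ^ 1 * (q ^ 2 - 1) := e
    _ < q ^ 1 * q ^ 2 := Nat.mul_lt_mul_of_pos_left h3 (by positivity)
    _ = p ^ (3 * f) := by rw [← pow_add, mul_comm 3 f, pow_mul]

theorem sum_desc (m : ℕ) : (∑ i ∈ range m, (m + 1 - i)) * 2 = m * m + 3 * m := by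
  rw [← sum_two m]
  congr 1
  rw [← Finset.sum_range_reflect (fun i => i + 2) m]
  exact Finset.sum_congr rfl fun i hi => by simp at hi; omega

theorem psl {F : Type} [Field F] [Fintype F] (hp : p.Prime) [CharP F p] {n : ℕ} (hn : 3 ≤ n) :
    Bound p (Nat.card (Matrix.ProjectiveSpecialLinearGroup (Fin n) F)) := by
  obtain ⟨f, hf, hF⟩ := field_card hp F
  have hq : p ∣ p ^ f := dvd_pow_self p (by omega)
  have h2 := two_le_pow hp hf
  have h := Cfsg.Agent.S0243.result hF n (by omega)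
  obtain ⟨m, rfl⟩ : ∃ m, n = m + 1 := ⟨n - 1, by omega⟩
  set q := p ^ f
  set a := ∑ i ∈ range (m + 1), i
  have e : Nat.card (Matrix.ProjectiveSpecialLinearGroup (Fin (m + 1)) F) * Nat.gcd (m + 1) (q - 1)
      = q ^ a * ∏ i ∈ range m, (q ^ (m + 1 - i) - 1) := by
    rw [Fin.prod_univ_eq_prod_range (fun i => q ^ (m + 1) - q ^ i)] at h
    have hsplit : ∀ i ∈ range (m + 1),
        q ^ (m + 1) - q ^ i = q ^ i * (q ^ (m + 1 - i) - 1) := by
      intro i hi
      simp only [mem_range] at hi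
      rw [Nat.mul_sub, mul_one, ← pow_add, show i + (m + 1 - i) = m + 1 by omega]
    rw [prod_congr rfl hsplit, prod_mul_distrib, prod_pow_eq_pow_sum, prod_range_succ
      (fun i => q ^ (m + 1 - i) - 1), show m + 1 - m = 1 by omega, pow_one] at h
    refine Nat.eq_of_mul_eq_mul_left (show 0 < q - 1 by omega) ?_
    linarith
  refine core (dim := a + ∑ i ∈ range m, (m + 1 - i)) hp e
    (not_dvd_prod hp _ _ fun i hi => not_dvd_pow_sub_one hp hq
      (by simp at hi; omega) (by omega))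
    (gcd_not_dvd hp (by simpa using not_dvd_pow_sub_one hp hq one_ne_zero (by omega))) ?_ ?_
  · rw [pow_add]
    exact Nat.mul_lt_mul_of_pos_left (prod_sub_one_lt (by omega) _ m (by omega)) (by positivity)
  · have h3 := Finset.sum_range_id_mul_two (m + 1)
    rw [Nat.add_sub_cancel] at h3
    have h4 := sum_desc m
    have h5 : 2 * m ≤ m * m := Nat.mul_le_mul_right m (by omega)
    simp only [a]
    nlinarith

theorem psu {F : Type} [Field F] [Fintype F] (hp : p.Prime) [CharP F p] {n q : ℕ}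
    (hF : Fintype.card F = q ^ 2) (hn : 3 ≤ n) : Bound p (Nat.card (Cfsg.PSU n F q)) := by
  obtain ⟨f, hf, rfl⟩ := root_card hp two_ne_zero F hF
  have hq : p ∣ p ^ f := dvd_pow_self p (by omega)
  have h2 := two_le_pow hp hf
  have h := Cfsg.Agent.S0280.result hF n (by omega)
  obtain ⟨m, rfl⟩ : ∃ m, n = m + 1 := ⟨n - 1, by omega⟩
  set q := p ^ f
  set a := (m + 1) * (m + 1 - 1) / 2 with ha
  have e : Nat.card (Cfsg.PSU (m + 1) F q) * Nat.gcd (m + 1) (q + 1)
      = q ^ a * ∏ i ∈ range m, alt q i := by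
    rw [prod_range_succ' (fun i => if Even i then q ^ (i + 1) + 1 else q ^ (i + 1) - 1)] at h
    simp only [Even.zero, if_true, zero_add, pow_one] at h
    have halt : ∀ i, (if Even (i + 1) then q ^ (i + 1 + 1) + 1 else q ^ (i + 1 + 1) - 1) = alt q i :=
      fun i => by
        unfold alt
        by_cases hi : Even i <;> simp [hi, Nat.even_add_one]
    simp only [halt] at h
    refine Nat.eq_of_mul_eq_mul_left (show 0 < q + 1 by omega) ?_
    linarith
  refine core (dim := a + ∑ i ∈ range m, (i + 2)) hp e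
    (not_dvd_prod hp _ _ fun i _ => ?_)
    (gcd_not_dvd hp (by simpa using not_dvd_pow_add_one hp hq one_ne_zero)) ?_ ?_
  · unfold alt
    split_ifs
    · exact not_dvd_pow_sub_one hp hq (by omega) (by omega)
    · exact not_dvd_pow_add_one hp hq (by omega)
  · rw [pow_add]
    exact Nat.mul_lt_mul_of_pos_left (alt_bound h2 m (by omega)) (by positivity)
  · have h4 := sum_two m
    have h5 : a * 2 = (m + 1) * m := by
      rw [ha, Nat.add_sub_cancel, mul_comm (m + 1) m]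
      exact Nat.div_mul_cancel (Nat.even_mul_succ_self m).two_dvd
    nlinarith

/-- Types B and C. -/
theorem type_b (hp : p.Prime) {f m N d : ℕ} (hf : 1 ≤ f) (hm : 2 ≤ m) (hd : ¬ p ∣ d)
    (e : N * d = (p ^ f) ^ (m ^ 2) * ∏ i ∈ range m, ((p ^ f) ^ (2 * (i + 1)) - 1)) :
    Bound p N := by
  have hq : p ∣ p ^ f := dvd_pow_self p (by omega)
  have h2 := two_le_pow hp hf
  refine core (dim := m ^ 2 + ∑ i ∈ range m, 2 * (i + 1)) hp e
    (not_dvd_prod hp _ _ fun i _ => not_dvd_pow_sub_one hp hq (by omega) (by omega)) hd ?_ ?_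
  · rw [pow_add]
    exact Nat.mul_lt_mul_of_pos_left (prod_sub_one_lt (by omega) _ m (by omega)) (by positivity)
  · rw [sum_even]; nlinarith

theorem psp {F : Type} [Field F] [Fintype F] (hp : p.Prime) [CharP F p] {m : ℕ} (hm : 2 ≤ m) :
    Bound p (Nat.card (Cfsg.PSp m F)) := by
  obtain ⟨f, hf, hF⟩ := field_card hp F
  have h := Cfsg.Agent.Symplectic.card_psp_mul m F (by omega)
  rw [hF] at h
  exact type_b hp hf hm (gcd_not_dvd hp (by
    simpa using not_dvd_pow_sub_one hp (dvd_pow_self p (by omega : f ≠ 0)) one_ne_zero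
      (Nat.one_le_pow _ _ hp.pos))) h

theorem omega_odd {F : Type} [Field F] [Fintype F] (hp : p.Prime) [CharP F p] {m : ℕ}
    (hm : 3 ≤ m) (hodd : Odd (Fintype.card F)) :
    Bound p (Nat.card (Cfsg.POmega F (Cfsg.quadFormOdd m F))) := by
  obtain ⟨f, hf, hF⟩ := field_card hp F
  have h := Cfsg.Agent.S0292.result hF (hF ▸ hodd) m hm
  exact type_b hp hf (by omega) (two_not_dvd hp (hF ▸ hodd) hf) ((mul_comm _ 2).trans h)

theorem omega_plus {F : Type} [Field F] [Fintype F] (hp : p.Prime) [CharP F p] {m : ℕ}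
    (hm : 4 ≤ m) : Bound p (Nat.card (Cfsg.POmega F (Cfsg.quadFormPlus m F))) := by
  obtain ⟨f, hf, hF⟩ := field_card hp F
  have hq : p ∣ p ^ f := dvd_pow_self p (by omega)
  have h2 := two_le_pow hp hf
  have h := Cfsg.Agent.S0293.result hF m hm
  rw [mul_comm, mul_assoc ((p ^ f) ^ (m * (m - 1)))] at h
  have hmm := not_dvd_pow_sub_one hp hq (e := m) (by omega) (by omega)
  refine core (dim := m * (m - 1) + (m + ∑ i ∈ range (m - 1), 2 * (i + 1))) hp h
    (fun hd => (hp.dvd_mul.1 hd).elim hmm (not_dvd_prod hp _ _ fun i _ =>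
      not_dvd_pow_sub_one hp hq (by omega) (by omega)))
    (gcd_not_dvd hp hmm) ?_ ?_
  · rw [pow_add, pow_add _ m]
    refine Nat.mul_lt_mul_of_pos_left ?_ (by positivity)
    exact Nat.mul_lt_mul_of_le_of_lt (Nat.sub_le _ _)
      (prod_sub_one_lt (by omega) _ _ (by omega)) (by positivity)
  · rw [sum_even]
    obtain ⟨k, rfl⟩ : ∃ k, m = k + 1 := ⟨m - 1, by omega⟩
    rw [Nat.add_sub_cancel]
    nlinarith

theorem omega_minus {F : Type} [Field F] [Fintype F] (hp : p.Prime) [CharP F p] {m : ℕ}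
    (hm : 4 ≤ m) {a b : F}
    (hab : ∀ z₁ z₂ : F, z₁ ^ 2 + a * z₁ * z₂ + b * z₂ ^ 2 = 0 → z₁ = 0 ∧ z₂ = 0) :
    Bound p (Nat.card (Cfsg.POmega F (Cfsg.quadFormMinus (m - 1) F a b))) := by
  obtain ⟨f, hf, hF⟩ := field_card hp F
  have hq : p ∣ p ^ f := dvd_pow_self p (by omega)
  have h2 := two_le_pow hp hf
  have h := Cfsg.Agent.S0294.result hF m hm a b hab
  rw [mul_comm, mul_assoc ((p ^ f) ^ (m * (m - 1)))] at h
  have hmm := not_dvd_pow_add_one hp hq (e := m) (by omega)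
  refine core (dim := m * (m - 1) + (m + ∑ i ∈ range (m - 1), 2 * (i + 1))) hp h
    (fun hd => (hp.dvd_mul.1 hd).elim hmm (not_dvd_prod hp _ _ fun i _ =>
      not_dvd_pow_sub_one hp hq (by omega) (by omega)))
    (gcd_not_dvd hp hmm) ?_ ?_
  · rw [pow_add, pow_add _ m]
    refine Nat.mul_lt_mul_of_pos_left ?_ (by positivity)
    obtain ⟨k, hk⟩ : ∃ k, m - 1 = k + 1 := ⟨m - 2, by omega⟩
    rw [hk, prod_range_succ', sum_range_succ', pow_add, zero_add, mul_one,
      ← mul_assoc ((p ^ f) ^ m), show ((p ^ f) ^ m + 1) *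
        ((∏ i ∈ range k, ((p ^ f) ^ (2 * (i + 1 + 1)) - 1)) * ((p ^ f) ^ 2 - 1))
        = (∏ i ∈ range k, ((p ^ f) ^ (2 * (i + 1 + 1)) - 1)) *
          (((p ^ f) ^ 2 - 1) * ((p ^ f) ^ m + 1)) by ring,
      show (p ^ f) ^ m * (p ^ f) ^ (∑ i ∈ range k, 2 * (i + 1 + 1)) * (p ^ f) ^ 2
        = (p ^ f) ^ (∑ i ∈ range k, 2 * (i + 1 + 1)) * (p ^ f) ^ (2 + m) by ring]
    refine Nat.mul_lt_mul_of_le_of_lt ?_ (plus_mul_sub (by omega) (by omega)) (by positivity)
    exact (prod_sub_one_lt (by omega) _ _ (by omega)).le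
  · rw [sum_even]
    obtain ⟨k, rfl⟩ : ∃ k, m = k + 1 := ⟨m - 1, by omega⟩
    rw [Nat.add_sub_cancel]
    nlinarith

/-- A product with only minus signs. -/
theorem minus_only (hp : p.Prime) {f a N d : ℕ} (hf : 1 ≤ f) (L : List ℕ) (hL : L ≠ [])
    (hpos : ∀ e ∈ L, e ≠ 0) (hd : ¬ p ∣ d)
    (h : N * d = (p ^ f) ^ a * (L.map fun e => (p ^ f) ^ e - 1).prod)
    (hdim : 3 * (a + L.sum) ≤ 8 * a) : Bound p N := by
  have hq : p ∣ p ^ f := dvd_pow_self p (by omega)
  have h1 : 1 ≤ p ^ f := Nat.one_le_pow _ _ hp.pos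
  refine core (dim := a + L.sum) hp h ?_ hd ?_ hdim
  · intro hh
    obtain ⟨x, hx, hx'⟩ := (Prime.dvd_prod_iff hp.prime).1 hh
    obtain ⟨e, he, rfl⟩ := List.mem_map.1 hx
    exact not_dvd_pow_sub_one hp hq (hpos e he) h1 hx'
  · rw [pow_add]
    refine Nat.mul_lt_mul_of_pos_left ?_ (by positivity)
    clear h hdim hpos
    induction L with
    | nil => exact absurd rfl hL
    | cons e l ih =>
        rw [List.map_cons, List.prod_cons, List.sum_cons, pow_add]
        have he : (p ^ f) ^ e - 1 < (p ^ f) ^ e := by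
          have := Nat.one_le_pow e (p ^ f) h1; omega
        rcases l with _ | ⟨e', l'⟩
        · simpa using he
        · exact Nat.mul_lt_mul_of_lt_of_le he (ih (by simp)).le (by positivity)

theorem exceptional {F : Type} [Field F] [Fintype F] (hp : p.Prime) [CharP F p] :
    (3 ≤ Fintype.card F → Bound p (Nat.card ↥(Cfsg.Lie.chevG2.group F))) ∧
    Bound p (Nat.card ↥(Cfsg.Lie.chevF4.group F)) ∧ Bound p (Nat.card ↥(Cfsg.Lie.chevE6.group F)) ∧
    Bound p (Nat.card ↥(Cfsg.Lie.chevE7.group F)) ∧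
    Bound p (Nat.card ↥(Cfsg.Lie.chevE8.group F)) := by
  obtain ⟨f, hf, hF⟩ := field_card hp F
  have hd : ∀ n, ¬ p ∣ Nat.gcd n (p ^ f - 1) := fun n => gcd_not_dvd hp (by
    simpa using not_dvd_pow_sub_one hp (dvd_pow_self p (by omega : f ≠ 0)) one_ne_zero
      (Nat.one_le_pow _ _ hp.pos))
  have h1 : ¬ p ∣ 1 := hp.not_dvd_one
  refine ⟨fun _ => ?_, ?_, ?_, ?_, ?_⟩
  · exact minus_only hp hf (a := 6) [2, 6] (by simp) (by simp) h1
      (by rw [Cfsg.Agent.S1059.result hF]; simp; ring) (by decide)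
  · exact minus_only hp hf (a := 24) [2, 6, 8, 12] (by simp) (by simp) h1
      (by rw [Cfsg.Agent.S1062.result hF]; simp; ring) (by decide)
  · exact minus_only hp hf (a := 36) [2, 5, 6, 8, 9, 12] (by simp) (by simp) (hd 3)
      (by rw [mul_comm, Cfsg.Agent.S1063.result hF]; simp; ring) (by decide)
  · exact minus_only hp hf (a := 63) [2, 6, 8, 10, 12, 14, 18] (by simp) (by simp) (hd 2)
      (by rw [mul_comm, Cfsg.Agent.S1064.result hF]; simp; ring) (by decide)
  · exact minus_only hp hf (a := 120) [2, 8, 12, 14, 18, 20, 24, 30] (by simp) (by simp) h1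
      (by rw [Cfsg.Agent.S1065.result hF]; simp; ring) (by decide)

theorem twisted_e6 {K : Type} [Field K] [Fintype K] (hp : p.Prime) [CharP K p] {q : ℕ}
    (hq : IsPrimePow q) (hK : Fintype.card K = q ^ 2) :
    Bound p (Nat.card ↥(Cfsg.Lie.twistedE6 K q)) := by
  obtain ⟨f, hf, rfl⟩ := root_card hp two_ne_zero K hK
  have hd : p ∣ p ^ f := dvd_pow_self p (by omega)
  have h2 := two_le_pow hp hf
  have h := Cfsg.Agent.S1066.result hq hK
  set q := p ^ f
  refine core (f := f) (a := 36) (dim := 36 + (7 + 15 + 8 + 12)) (d := Nat.gcd 3 (q + 1))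
    (R := ((q ^ 2 - 1) * (q ^ 5 + 1)) * ((q ^ 6 - 1) * (q ^ 9 + 1)) * (q ^ 8 - 1) * (q ^ 12 - 1))
    hp (by rw [mul_comm, h]; ring) ?_ ?_ ?_ (by norm_num)
  · simp only [hp.dvd_mul, not_or]
    exact ⟨⟨⟨⟨not_dvd_pow_sub_one hp hd two_ne_zero (by omega),
      not_dvd_pow_add_one hp hd (by omega)⟩,
      ⟨not_dvd_pow_sub_one hp hd (by omega) (by omega), not_dvd_pow_add_one hp hd (by omega)⟩⟩,
      not_dvd_pow_sub_one hp hd (by omega) (by omega)⟩,
      not_dvd_pow_sub_one hp hd (by omega) (by omega)⟩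
  · exact gcd_not_dvd hp (by simpa using not_dvd_pow_add_one hp hd one_ne_zero)
  · rw [pow_add, pow_add q (7 + 15 + 8) 12, pow_add q (7 + 15) 8, pow_add q 7 15]
    refine Nat.mul_lt_mul_of_pos_left ?_ (by positivity)
    refine Nat.mul_lt_mul_of_lt_of_le ?_ (Nat.sub_le _ _) (by positivity)
    refine Nat.mul_lt_mul_of_lt_of_le ?_ (Nat.sub_le _ _) (by positivity)
    exact Nat.mul_lt_mul_of_lt_of_le (plus_mul_sub (by omega) (by norm_num))
      (plus_mul_sub (by omega) (by norm_num)).le (by positivity)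

theorem twisted_d4 {K : Type} [Field K] [Fintype K] (hp : p.Prime) [CharP K p] {q : ℕ}
    (hq : IsPrimePow q) (hK : Fintype.card K = q ^ 3) :
    Bound p (Nat.card ↥(Cfsg.Lie.twistedD4 K q)) := by
  obtain ⟨f, hf, rfl⟩ := root_card hp three_ne_zero K hK
  have hd : p ∣ p ^ f := dvd_pow_self p (by omega)
  have h2 := two_le_pow hp hf
  have h := Cfsg.Agent.S1067.result hq hK
  set q := p ^ f
  refine core (f := f) (a := 12) (dim := 12 + (10 + 6)) (d := 1)
    (R := (q ^ 2 - 1) * (q ^ 8 + q ^ 4 + 1) * (q ^ 6 - 1)) hp (by rw [h]; ring) ?_ hp.not_dvd_one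
    ?_ (by norm_num)
  · simp only [hp.dvd_mul, not_or]
    refine ⟨⟨not_dvd_pow_sub_one hp hd two_ne_zero (by omega), fun hh => ?_⟩,
      not_dvd_pow_sub_one hp hd (by omega) (by omega)⟩
    exact hp.not_dvd_one ((Nat.dvd_add_right (Nat.dvd_add (hd.trans (dvd_pow_self q (by omega)))
      (hd.trans (dvd_pow_self q (by omega))))).1 hh)
  · rw [pow_add, pow_add q 10 6]
    refine Nat.mul_lt_mul_of_pos_left ?_ (by positivity)
    refine Nat.mul_lt_mul_of_lt_of_le ?_ (Nat.sub_le _ _) (by positivity)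
    obtain ⟨k, hk⟩ : ∃ k, q ^ 2 = k + 1 := ⟨q ^ 2 - 1, by
      have := Nat.one_le_pow 2 q (by omega); omega⟩
    rw [show q ^ 8 = (q ^ 2) ^ 4 by ring, show q ^ 4 = (q ^ 2) ^ 2 by ring,
      show q ^ 10 = (q ^ 2) ^ 5 by ring, hk, Nat.add_sub_cancel]
    have : 1 ≤ k := by nlinarith
    have h34 : (k + 1) ^ 3 ≤ (k + 1) ^ 4 := Nat.pow_le_pow_right (by omega) (by omega)
    have h12 : (k + 1) ≤ (k + 1) ^ 2 := Nat.le_self_pow (by omega) _
    nlinarith

theorem two_f4 {K : Type} [Field K] [Fintype K] {m : ℕ}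
    (hK : Fintype.card K = 2 ^ (2 * m + 1)) :
    Bound 2 (Nat.card ↥(Cfsg.Lie.twistedF4 K (2 ^ m))) := by
  have hp := Nat.prime_two
  have h := Cfsg.Agent.S1068.result hK
  set q := 2 ^ (2 * m + 1)
  have hd : 2 ∣ q := dvd_pow_self 2 (by omega)
  have h2 : 2 ≤ q := Nat.le_self_pow (by omega) 2
  refine core (f := 2 * m + 1) (a := 12) (dim := 12 + (4 + 10)) (d := 1)
    (R := ((q ^ 1 - 1) * (q ^ 3 + 1)) * ((q ^ 4 - 1) * (q ^ 6 + 1))) hp
    (by rw [h, pow_one]; ring) ?_ hp.not_dvd_one ?_ (by norm_num)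
  · simp only [hp.dvd_mul, not_or]
    exact ⟨⟨not_dvd_pow_sub_one hp hd one_ne_zero (by omega), not_dvd_pow_add_one hp hd (by omega)⟩,
      not_dvd_pow_sub_one hp hd (by omega) (by omega), not_dvd_pow_add_one hp hd (by omega)⟩
  · rw [pow_add q 12 (4 + 10), pow_add q 4 10]
    refine Nat.mul_lt_mul_of_pos_left ?_ (by positivity)
    exact Nat.mul_lt_mul_of_lt_of_le (plus_mul_sub (by omega) (by norm_num))
      (plus_mul_sub (by omega) (by norm_num)).le (by positivity)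

theorem ree {K : Type} [Field K] [Fintype K] {m : ℕ}
    (hK : Fintype.card K = 3 ^ (2 * m + 1)) :
    Bound 3 (Nat.card ↥(Cfsg.Lie.twistedG2 K (3 ^ m))) := by
  have hp := Nat.prime_three
  have h := Cfsg.Agent.S1069.result hK
  set q := 3 ^ (2 * m + 1)
  have hd : 3 ∣ q := dvd_pow_self 3 (by omega)
  have h2 : 3 ≤ q := Nat.le_self_pow (by omega) 3
  refine core (f := 2 * m + 1) (a := 3) (dim := 3 + 4) (d := 1)
    (R := (q ^ 1 - 1) * (q ^ 3 + 1)) hp (by rw [h, pow_one]; ring) ?_ hp.not_dvd_one ?_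
    (by norm_num)
  · simp only [hp.dvd_mul, not_or]
    exact ⟨not_dvd_pow_sub_one hp hd one_ne_zero (by omega), not_dvd_pow_add_one hp hd (by omega)⟩
  · rw [pow_add q]
    exact Nat.mul_lt_mul_of_pos_left (plus_mul_sub (by omega) (by norm_num)) (by positivity)

theorem suzuki {K : Type} [Field K] [Fintype K] {m : ℕ} (hm : 1 ≤ m)
    (hK : Fintype.card K = 2 ^ (2 * m + 1)) :
    Bound 2 (Nat.card ↥(Cfsg.Lie.Sz K (2 ^ (m + 1)))) := by
  have hp := Nat.prime_two
  have h := (Cfsg.Agent.S1163.result hm hK).1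
  set q := 2 ^ (2 * m + 1)
  have hd : 2 ∣ q := dvd_pow_self 2 (by omega)
  have h2 : 2 ≤ q := Nat.le_self_pow (by omega) 2
  refine core (f := 2 * m + 1) (a := 2) (dim := 2 + 3) (d := 1)
    (R := (q ^ 1 - 1) * (q ^ 2 + 1)) hp (by rw [h, pow_one]; ring) ?_ hp.not_dvd_one ?_
    (by norm_num)
  · simp only [hp.dvd_mul, not_or]
    exact ⟨not_dvd_pow_sub_one hp hd one_ne_zero (by omega), not_dvd_pow_add_one hp hd (by omega)⟩
  · rw [pow_add q]
    exact Nat.mul_lt_mul_of_pos_left (plus_mul_sub (by omega) (by norm_num)) (by positivity)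

theorem order_lt {G : Type*} [Group G] [Finite G] {p : ℕ} (hp : p.Prime)
    (hG : Cfsg.IsLieTypeChar p G) :
    Nat.card G < p ^ (3 * (Nat.card G).factorization p) ∧
      ((¬ ∃ (F : Type) (_ : Field F) (_ : Fintype F),
          Fintype.card F = p ^ (Nat.card G).factorization p ∧
          Nonempty (G ≃* Matrix.ProjectiveSpecialLinearGroup (Fin 2) F)) →
        Nat.card G ^ 3 < p ^ (8 * (Nat.card G).factorization p)) := by
  have done : ∀ {H : Type} [Group H], (G ≃* H) → Bound p (Nat.card H) →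
      Nat.card G < p ^ (3 * (Nat.card G).factorization p) ∧
      ((¬ ∃ (F : Type) (_ : Field F) (_ : Fintype F),
          Fintype.card F = p ^ (Nat.card G).factorization p ∧
          Nonempty (G ≃* Matrix.ProjectiveSpecialLinearGroup (Fin 2) F)) →
        Nat.card G ^ 3 < p ^ (8 * (Nat.card G).factorization p)) := by
    intro H _ e h
    rw [Nat.card_congr e.toEquiv]
    exact ⟨h.1, fun _ => h.2⟩
  rcases hG with ⟨F, iF, iT, iC, n, hn, hn4, ⟨e⟩⟩ | ⟨F, iF, iT, iC, m, hm, -, ⟨e⟩⟩ |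
    ⟨F, iF, iT, iC, n, q, hF, hn, -, ⟨e⟩⟩ | ⟨F, iF, iT, iC, m, hm, hodd, ⟨e⟩⟩ |
    ⟨F, iF, iT, iC, m, hm, ⟨e⟩⟩ | ⟨F, iF, iT, iC, m, a, b, hm, hab, ⟨e⟩⟩ |
    ⟨F, iF, iT, iC, ⟨h3, ⟨e⟩⟩ | e | e | e | e⟩ |
    ⟨K, iF, iT, iC, q, hq, ⟨hK, ⟨e⟩⟩ | ⟨hK, ⟨e⟩⟩⟩ |
    ⟨rfl, F, iF, iT, m, hm, hF, ⟨e⟩⟩ | ⟨rfl, K, iF, iT, m, hm, hK, ⟨e⟩⟩ |
    ⟨rfl, K, iF, iT, m, hm, hK, ⟨e⟩⟩
  · rcases Nat.lt_or_ge n 3 with h2 | h3
    · obtain rfl : n = 2 := by omega
      obtain ⟨a, b⟩ := psl_two (F := F) hp (hn4 rfl)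
      have hc := Nat.card_congr e.toEquiv
      refine ⟨by rw [hc]; exact a, fun hno => absurd ⟨F, iF, iT, ?_, ⟨e⟩⟩ hno⟩
      rw [hc]; exact b
    · exact done e (psl hp h3)
  · exact done e (psp hp hm)
  · exact done e (psu hp hF hn)
  · exact done e (omega_odd hp hm hodd)
  · exact done e (omega_plus hp hm)
  · exact done e (omega_minus hp hm hab)
  · exact done e ((exceptional hp).1 h3)
  · exact e.elim fun e => done e (exceptional hp).2.1
  · exact e.elim fun e => done e (exceptional hp).2.2.1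
  · exact e.elim fun e => done e (exceptional hp).2.2.2.1
  · exact e.elim fun e => done e (exceptional hp).2.2.2.2
  · exact done e (twisted_e6 hp hq hK)
  · exact done e (twisted_d4 hp hq hK)
  · exact done e (suzuki hm hF)
  · exact done e (two_f4 hK)
  · exact done e (ree hK)

end Cfsg.Agent.H37.OrderBound
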